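import Groth.Prelude.Def_CAlgX
import Groth.Agent.AdicLim.Noetherian
import Groth.Agent.FlatDescent.Trunc.Flat
import Mathlib.LinearAlgebra.TensorProduct.Pi
import Mathlib.Algebra.Order.Antidiag.Finsupp

/-!
# Quasi-regular sequences with flat quotient commute with base change
-/

set_option autoImplicit false
universe u

open TensorProduct

namespace Groth.Agent.QRegBC

variable {A B : Type u} [CommRing A] [CommRing B] [Algebra A B] {r : ℕ} (f : Fin r → B)

/-- The exponents of degree `n`. -/
abbrev Expo (r n : ℕ) : Finset (Fin r →₀ ℕ) := (Finset.univ : Finset (Fin r)).finsuppAntidiag n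

theorem mem_expo {n : ℕ} {d : Fin r →₀ ℕ} : d ∈ Expo r n ↔ d.degree = n := by
  simp [Finset.mem_finsuppAntidiag, Finsupp.degree_eq_sum]

/-- The monomial of exponent `d`. -/
def mono (d : Fin r →₀ ℕ) : B := ∏ i, f i ^ d i

theorem mono_mem (n : ℕ) (d : Fin r →₀ ℕ) (hd : d.degree = n) :
    mono f d ∈ Ideal.span (Set.range f) ^ n := by
  rw [← hd, Finsupp.degree_eq_sum, ← Finset.prod_pow_eq_pow_sum]
  exact Ideal.prod_mem_prod fun i _ => Ideal.pow_mem_pow (Ideal.subset_span (Set.mem_range_self i)) _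

theorem eval_eq {C : Type u} [CommRing C] (g : Fin r → C) (n : ℕ) (P : MvPolynomial (Fin r) C)
    (hP : P.IsHomogeneous n) :
    MvPolynomial.eval g P = ∑ d : {d // d ∈ Expo r n}, P.coeff d.1 * mono g d.1 := by
  rw [MvPolynomial.eval_eq', Finset.univ_eq_attach, Finset.sum_attach (Expo r n) (fun d => P.coeff d * mono g d)]
  refine Finset.sum_subset (fun d hd => mem_expo.2 ?_) fun d _ hd => ?_
  · exact not_imp_comm.1 hP.coeff_eq_zero (MvPolynomial.mem_support_iff.1 hd)
  · rw [MvPolynomial.notMem_support_iff.1 hd, zero_mul]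

theorem exists_sum_mono_eq {n : ℕ} {y : B} (hy : y ∈ Ideal.span (Set.range f) ^ n) :
    ∃ c : {d // d ∈ Expo r n} → B, ∑ d, c d * mono f d.1 = y := by
  obtain ⟨P, hP, rfl⟩ := AdicLim.exists_isHomogeneous_eval f rfl hy
  exact ⟨fun d => P.coeff d.1, (eval_eq f n P hP).symm⟩

/-- Multiplication by a monomial, modulo the next power. -/
noncomputable def monoMap (n : ℕ) (d : {d // d ∈ Expo r n}) :
    B ⧸ Ideal.span (Set.range f) →ₗ[B] B ⧸ Ideal.span (Set.range f) ^ (n + 1) :=
  Submodule.liftQ _ (LinearMap.toSpanSingleton B _ (Ideal.Quotient.mk _ (mono f d.1))) fun j hj => by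
    rw [LinearMap.mem_ker, LinearMap.toSpanSingleton_apply, Algebra.smul_def, Ideal.Quotient.algebraMap_eq,
      ← map_mul, Ideal.Quotient.eq_zero_iff_mem, pow_succ, mul_comm j]
    exact Ideal.mul_mem_mul (mono_mem f n d.1 (mem_expo.1 d.2)) hj

/-- The graded piece. -/
noncomputable def psi (n : ℕ) :
    ({d // d ∈ Expo r n} → B ⧸ Ideal.span (Set.range f)) →ₗ[A] B ⧸ Ideal.span (Set.range f) ^ (n + 1) :=
  ((∑ d, monoMap f n d ∘ₗ LinearMap.proj d :
    ({d // d ∈ Expo r n} → B ⧸ Ideal.span (Set.range f)) →ₗ[B] _)).restrictScalars A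

theorem psi_mk (n : ℕ) (c : {d // d ∈ Expo r n} → B) :
    psi (A := A) f n (fun d => Ideal.Quotient.mk _ (c d)) = Ideal.Quotient.mk _ (∑ d, c d * mono f d.1) := by
  rw [map_sum, psi, LinearMap.restrictScalars_apply, LinearMap.sum_apply]
  refine Finset.sum_congr rfl fun d _ => ?_
  show c d • Ideal.Quotient.mk _ (mono f d.1) = _
  rw [Algebra.smul_def, Ideal.Quotient.algebraMap_eq, ← map_mul]

/-- The projection to the previous power. -/
noncomputable def proj (n : ℕ) :
    B ⧸ Ideal.span (Set.range f) ^ (n + 1) →ₗ[A] B ⧸ Ideal.span (Set.range f) ^ n :=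
  (Ideal.Quotient.factorₐ A (Ideal.pow_le_pow_right n.le_succ)).toLinearMap

theorem proj_surjective (n : ℕ) : Function.Surjective (proj (A := A) f n) :=
  Ideal.Quotient.factor_surjective (Ideal.pow_le_pow_right n.le_succ)

theorem exact_psi (n : ℕ) : Function.Exact (psi (A := A) f n) (proj (A := A) f n) := by
  intro y
  obtain ⟨y, rfl⟩ := Ideal.Quotient.mk_surjective y
  show Ideal.Quotient.mk _ y = 0 ↔ _
  rw [Ideal.Quotient.eq_zero_iff_mem]
  constructor
  · intro h
    obtain ⟨c, rfl⟩ := exists_sum_mono_eq f h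
    exact ⟨_, psi_mk f n c⟩
  · rintro ⟨x, hx⟩
    choose c hc using fun d => Ideal.Quotient.mk_surjective (x d)
    obtain rfl : x = fun d => Ideal.Quotient.mk _ (c d) := funext fun d => (hc d).symm
    rw [psi_mk, Ideal.Quotient.eq] at hx
    have h1 : ∑ d, c d * mono f d.1 ∈ Ideal.span (Set.range f) ^ n :=
      Ideal.sum_mem _ fun d _ => Ideal.mul_mem_left _ _ (mono_mem f n d.1 (mem_expo.1 d.2))
    simpa using sub_mem h1 (Ideal.pow_le_pow_right n.le_succ hx)

variable {f}

theorem psi_injective (hq : CAlgX.IsQuasiRegular f) (n : ℕ) : Function.Injective (psi (A := A) f n) := by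
  classical
  rw [injective_iff_map_eq_zero]
  intro x hx
  choose c hc using fun d => Ideal.Quotient.mk_surjective (x d)
  obtain rfl : x = fun d => Ideal.Quotient.mk _ (c d) := funext fun d => (hc d).symm
  rw [psi_mk, Ideal.Quotient.eq_zero_iff_mem] at hx
  let P : MvPolynomial (Fin r) B := ∑ d, MvPolynomial.monomial d.1 (c d)
  have hP : P.IsHomogeneous n := MvPolynomial.IsHomogeneous.sum _ _ _ fun d _ =>
    MvPolynomial.isHomogeneous_monomial _ (mem_expo.1 d.2)
  have hcoeff : ∀ d : {d // d ∈ Expo r n}, P.coeff d.1 = c d := fun d => by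
    simp only [P, MvPolynomial.coeff_sum, MvPolynomial.coeff_monomial]
    rw [Finset.sum_eq_single d (fun e _ he => if_neg fun h => he (Subtype.ext h))
      (fun h => absurd (Finset.mem_univ _) h), if_pos rfl]
  have he : MvPolynomial.eval f P ∈ Ideal.span (Set.range f) ^ (n + 1) := by
    rw [eval_eq f n P hP]
    simpa [hcoeff] using hx
  funext d
  exact Ideal.Quotient.eq_zero_iff_mem.2 (hcoeff d ▸ hq n P hP he d.1)

variable (hflat : Module.Flat A (B ⧸ Ideal.span (Set.range f))) (hq : CAlgX.IsQuasiRegular f)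

include hflat hq in
theorem flat_quotient_pow (n : ℕ) : Module.Flat A (B ⧸ Ideal.span (Set.range f) ^ n) := by
  induction n with
  | zero =>
    have : Subsingleton (B ⧸ Ideal.span (Set.range f) ^ 0) := Ideal.Quotient.subsingleton_iff.2 (by simp)
    infer_instance
  | succ n ih =>
    have : Module.Flat A ({d // d ∈ Expo r n} → B ⧸ Ideal.span (Set.range f)) :=
      Module.Flat.of_linearEquiv (DirectSum.linearEquivFunOnFintype A _ fun _ => B ⧸ Ideal.span (Set.range f)).symm
    exact Groth.FlatDescent.Trunc.flat_of_exact (psi f n) (proj f n) (psi_injective hq n) (exact_psi f n)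
      (proj_surjective f n)

variable {A' : Type u} [CommRing A'] [Algebra A A']

include hflat hq in
theorem isQuasiRegular_baseChange :
    CAlgX.IsQuasiRegular (fun i => ((1 : A') ⊗ₜ[A] f i : A' ⊗[A] B)) := by
  classical
  intro n P hP he d
  set J := Ideal.span (Set.range f) with hJ
  let f' : Fin r → A' ⊗[A] B := fun i => (1 : A') ⊗ₜ[A] f i
  let ι : B →+* A' ⊗[A] B := (Algebra.TensorProduct.includeRight : B →ₐ[A] A' ⊗[A] B).toRingHom
  have hJ' : Ideal.span (Set.range f') = J.map ι := by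
    rw [hJ, Ideal.map_span, ← Set.range_comp]; rfl
  change _ ∈ Ideal.span (Set.range f') ^ (n + 1) at he
  change P.coeff d ∈ Ideal.span (Set.range f')
  rw [hJ'] at he ⊢
  have hmap : ∀ (I : Ideal B) (z : A' ⊗[A] B), z ∈ I.map ι →
      (Ideal.Quotient.mkₐ A I).toLinearMap.lTensor A' z = 0 := fun I z hz => by
    refine Submodule.span_induction ?_ (map_zero _) (fun a b _ _ ha hb => by rw [map_add, ha, hb, add_zero])
      (fun a b _ hb => ?_) hz
    · rintro _ ⟨y, hy, rfl⟩
      show (1 : A') ⊗ₜ[A] Ideal.Quotient.mk I y = 0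
      rw [Ideal.Quotient.eq_zero_iff_mem.2 hy, tmul_zero]
    · have : ∀ x y : A' ⊗[A] B, (Ideal.Quotient.mkₐ A I).toLinearMap.lTensor A' (x * y) =
          Algebra.TensorProduct.map (AlgHom.id A A') (Ideal.Quotient.mkₐ A I) x *
            Algebra.TensorProduct.map (AlgHom.id A A') (Ideal.Quotient.mkₐ A I) y := fun x y =>
        map_mul (Algebra.TensorProduct.map (AlgHom.id A A') (Ideal.Quotient.mkₐ A I)) x y
      rw [smul_eq_mul, this, show Algebra.TensorProduct.map (AlgHom.id A A') (Ideal.Quotient.mkₐ A I) b = 0 from hb,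
        mul_zero]
  by_cases hd : d.degree = n
  swap
  · rw [hP.coeff_eq_zero hd]
    exact zero_mem _
  let E := {d // d ∈ Expo r n}
  let π : B →ₗ[A] B ⧸ J := (Ideal.Quotient.mkₐ A J).toLinearMap
  let π' : B →ₗ[A] B ⧸ J ^ (n + 1) := (Ideal.Quotient.mkₐ A (J ^ (n + 1))).toLinearMap
  let e₀ : A' ⊗[A] (E → B) ≃ₗ[A] (E → A' ⊗[A] B) := TensorProduct.piRight A A A' (fun _ : E => B)
  let e₁ : A' ⊗[A] (E → B ⧸ J) ≃ₗ[A] (E → A' ⊗[A] (B ⧸ J)) := TensorProduct.piRight A A A' (fun _ : E => B ⧸ J)
  have key : ∀ t, (psi (A := A) f n).lTensor A' ((π.compLeft E).lTensor A' t) =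
      π'.lTensor A' (∑ d : E, e₀ t d * mono f' d.1) := by
    intro t
    induction t using TensorProduct.induction_on with
    | zero => simp
    | add x y hx hy => simp only [map_add, Pi.add_apply, add_mul, Finset.sum_add_distrib, hx, hy]
    | tmul s b =>
      have hm : ∀ d : E, mono f' d.1 = (1 : A') ⊗ₜ[A] mono f d.1 := fun d => by
        show ∏ i, ι (f i) ^ d.1 i = ι (mono f d.1)
        simp only [mono, map_prod, map_pow]
      rw [LinearMap.lTensor_tmul, LinearMap.lTensor_tmul,
        show π.compLeft E b = fun d => Ideal.Quotient.mk J (b d) from rfl, psi_mk]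
      simp only [hm, e₀, piRight_apply, piRightHom_tmul, Algebra.TensorProduct.tmul_mul_tmul, mul_one,
        ← TensorProduct.tmul_sum, LinearMap.lTensor_tmul]
      rfl
  let t := e₀.symm fun d => P.coeff d.1
  have hinj : Function.Injective ((psi (A := A) f n).lTensor A') := by
    have := flat_quotient_pow hflat hq n
    exact LinearMap.lTensor_injective_of_exact_of_flat (proj f n) (proj_surjective f n) (psi f n)
      (psi_injective hq n) (exact_psi f n) A'
  have h0 : (π.compLeft E).lTensor A' t = 0 := by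
    refine hinj ?_
    rw [key, map_zero, e₀.apply_symm_apply, ← eval_eq f' n P hP]
    refine hmap _ _ ?_
    rw [Ideal.map_pow]
    exact he
  have h1 : ∀ t, e₁ ((π.compLeft E).lTensor A' t) = fun d => π.lTensor A' (e₀ t d) := by
    intro t
    induction t using TensorProduct.induction_on with
    | zero => simp; rfl
    | add x y hx hy => simp only [map_add, hx, hy, Pi.add_apply]; rfl
    | tmul s b => funext d; simp [e₀, e₁]
  have h2 : π.lTensor A' (P.coeff d) = 0 := by
    have := congrFun (h1 t) ⟨d, mem_expo.2 hd⟩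
    rw [h0, map_zero, e₀.apply_symm_apply] at this
    exact this.symm
  have hex : Function.Exact ((Submodule.subtype J).restrictScalars A) π := fun y =>
    ⟨fun h => ⟨⟨y, Ideal.Quotient.eq_zero_iff_mem.1 h⟩, rfl⟩,
      fun ⟨z, hz⟩ => hz ▸ Ideal.Quotient.eq_zero_iff_mem.2 z.2⟩
  obtain ⟨z, hz⟩ := (lTensor_exact A' hex Ideal.Quotient.mk_surjective _).1 h2
  rw [← hz]
  clear hz h2
  induction z using TensorProduct.induction_on with
  | zero => simp
  | add x y hx hy => rw [map_add]; exact add_mem hx hy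
  | tmul s j =>
    rw [LinearMap.lTensor_tmul, show (s ⊗ₜ[A] ((Submodule.subtype J).restrictScalars A j) : A' ⊗[A] B) =
      (s ⊗ₜ[A] (1 : B)) * ι j.1 by simp [ι, Algebra.TensorProduct.tmul_mul_tmul]]
    exact Ideal.mul_mem_left _ _ (Ideal.mem_map_of_mem _ j.2)

end Groth.Agent.QRegBC
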