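import Groth.Agent.QRegBC.Basic
import Groth.Agent.RegSeq.Noeth
import Groth.Agent.FlatDescent.Slicing.Open

/-!
# Quotients by lifts of quasi-regular sequences along locally nilpotent thickenings
-/

set_option autoImplicit false
universe u

open TensorProduct MvPolynomial
open Groth.FlatDescent.Slicing

namespace Groth.Agent.QRegBC

variable {A' B' : Type u} [CommRing A'] [CommRing B'] [Algebra A' B'] (I : Ideal A') {r : ℕ} (f' : Fin r → B')

/-- The images in `B'/pB'`. -/
theorem isQuasiRegular_mod_prime
    (hq : CAlgX.IsQuasiRegular (fun i => Ideal.Quotient.mk (Ideal.map (algebraMap A' B') I) (f' i)))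
    (hflat : Module.Flat (A' ⧸ I)
      ((B' ⧸ Ideal.map (algebraMap A' B') I) ⧸
        Ideal.span (Set.range (fun i => Ideal.Quotient.mk (Ideal.map (algebraMap A' B') I) (f' i)))))
    (p : Ideal A') (hIp : I ≤ p) :
    CAlgX.IsQuasiRegular (fun i => Ideal.Quotient.mk (p.map (algebraMap A' B')) (f' i)) := by
  let A := A' ⧸ I
  let B := B' ⧸ Ideal.map (algebraMap A' B') I
  let : Algebra A (A' ⧸ p) := (Ideal.Quotient.factor hIp).toAlgebra
  let C := (A' ⧸ p) ⊗[A] B
  have h1 : CAlgX.IsQuasiRegular (fun i => ((1 : A' ⧸ p) ⊗ₜ[A] Ideal.Quotient.mk _ (f' i) : C)) :=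
    isQuasiRegular_baseChange hflat hq
  let E := B' ⧸ p.map (algebraMap A' B')
  let ιB : B' →+* C := (Algebra.TensorProduct.includeRight : B →ₐ[A] C).toRingHom.comp (Ideal.Quotient.mk _)
  have hιB : ∀ a, a ∈ p → ιB (algebraMap A' B' a) = 0 := fun a ha => by
    show (1 : A' ⧸ p) ⊗ₜ[A] (algebraMap A B (Ideal.Quotient.mk I a)) = 0
    rw [Algebra.algebraMap_eq_smul_one, ← TensorProduct.smul_tmul, ← Algebra.algebraMap_eq_smul_one]
    show Ideal.Quotient.mk p a ⊗ₜ[A] (1 : B) = 0
    rw [Ideal.Quotient.eq_zero_iff_mem.2 ha, zero_tmul]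
  let β : E →+* C := Ideal.Quotient.lift _ ιB (show p.map (algebraMap A' B') ≤ RingHom.ker ιB from
    Ideal.map_le_iff_le_comap.2 fun a ha => hιB a ha)
  have hβ : Function.Bijective β := by
    let θA : A' ⧸ p →+* E := Ideal.quotientMap _ (algebraMap A' B') Ideal.le_comap_map
    let : Algebra A E := (θA.comp (algebraMap A (A' ⧸ p))).toAlgebra
    let u : A' ⧸ p →ₐ[A] E := { θA with commutes' := fun _ => rfl }
    let v : B →ₐ[A] E :=
      { Ideal.Quotient.factor (Ideal.map_mono hIp) with
        commutes' := fun a => by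
          obtain ⟨a, rfl⟩ := Ideal.Quotient.mk_surjective a
          rfl }
    let θ : C →ₐ[A] E := Algebra.TensorProduct.lift u v fun _ _ => Commute.all _ _
    refine Function.bijective_iff_has_inverse.2 ⟨θ, fun x => ?_, fun x => ?_⟩
    · obtain ⟨x, rfl⟩ := Ideal.Quotient.mk_surjective x
      show θ ((1 : A' ⧸ p) ⊗ₜ[A] Ideal.Quotient.mk _ x) = _
      rw [Algebra.TensorProduct.lift_tmul, map_one, one_mul]
      rfl
    · induction x using TensorProduct.induction_on with
      | zero => simp
      | add x y hx hy => rw [map_add, map_add, hx, hy]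
      | tmul a b =>
        obtain ⟨a, rfl⟩ := Ideal.Quotient.mk_surjective a
        obtain ⟨b, rfl⟩ := Ideal.Quotient.mk_surjective b
        rw [Algebra.TensorProduct.lift_tmul]
        show β (Ideal.Quotient.mk _ (algebraMap A' B' a) * Ideal.Quotient.mk _ b) = _
        rw [← map_mul]
        show (1 : A' ⧸ p) ⊗ₜ[A] (Ideal.Quotient.mk _ (algebraMap A' B' a * b) : B) = _
        rw [show (Ideal.Quotient.mk _ (algebraMap A' B' a * b) : B) = (Ideal.Quotient.mk I a : A) • (Ideal.Quotient.mk _ b : B) from
          by rw [map_mul, Algebra.smul_def]; rfl, ← TensorProduct.smul_tmul, ← Algebra.algebraMap_eq_smul_one]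
        rfl
  let e := RingEquiv.ofBijective β hβ
  let : Algebra C E := e.symm.toRingHom.toAlgebra
  have : Module.Flat C E := (RingHom.Flat.of_bijective e.symm.bijective : e.symm.toRingHom.Flat)
  have h2 := RegSeq.isQuasiRegular_of_flat (S := E) h1
  convert h2 using 1
  funext i
  show _ = e.symm _
  rw [RingEquiv.eq_symm_apply]
  rfl

theorem flat_quotient_of_nilp [Module.Flat A' B'] [Algebra.FinitePresentation A' B']
    (hI : ∀ x ∈ I, IsNilpotent x)
    (hq : CAlgX.IsQuasiRegular (fun i => Ideal.Quotient.mk (Ideal.map (algebraMap A' B') I) (f' i)))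
    (hflat : Module.Flat (A' ⧸ I)
      ((B' ⧸ Ideal.map (algebraMap A' B') I) ⧸
        Ideal.span (Set.range (fun i => Ideal.Quotient.mk (Ideal.map (algebraMap A' B') I) (f' i))))) :
    Module.Flat A' (B' ⧸ Ideal.span (Set.range f')) := by
  set J' := Ideal.span (Set.range f')
  refine Module.flat_of_isLocalized_maximal (R := A') (S := B') (B' ⧸ J')
    (fun (P : Ideal B') [P.IsMaximal] => LocalizedModule P.primeCompl (B' ⧸ J'))
    (fun P _ => LocalizedModule.mkLinearMap P.primeCompl (B' ⧸ J')) fun Q hQ => ?_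
  by_cases hJQ : J' ≤ Q
  swap
  · have : Subsingleton (LocalizedModule Q.primeCompl (B' ⧸ J')) := by
      by_contra h
      rw [not_subsingleton_iff_nontrivial] at h
      refine hJQ ?_
      have := (Module.mem_support_iff_of_finite.1 (Module.mem_support_iff.2 h :
        (⟨Q, hQ.isPrime⟩ : PrimeSpectrum B') ∈ Module.support B' (B' ⧸ J')))
      rwa [Ideal.annihilator_quotient] at this
    infer_instance
  let T := Localization.AtPrime Q
  let p := Q.comap (algebraMap A' B')
  have hIp : I ≤ p := fun a ha => by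
    obtain ⟨n, hn⟩ := hI a ha
    exact Ideal.IsPrime.mem_of_pow_mem (inferInstance : p.IsPrime) n (hn ▸ p.zero_mem)
  let pT := p.map (algebraMap A' T)
  let Tb := T ⧸ pT
  let t : Fin r → Tb := fun i => Ideal.Quotient.mk pT (algebraMap B' T (f' i))
  have hle : pT ≤ IsLocalRing.maximalIdeal T := by
    show p.map _ ≤ _
    rw [IsScalarTower.algebraMap_eq A' B' T, ← Ideal.map_map, ← Localization.AtPrime.map_eq_maximalIdeal]
    exact Ideal.map_mono Ideal.map_comap_le
  have : Nontrivial Tb :=
    Ideal.Quotient.nontrivial_iff.mpr (ne_top_of_le_ne_top (IsLocalRing.maximalIdeal.isMaximal T).ne_top hle)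
  have : IsLocalRing Tb := IsLocalRing.of_surjective' (Ideal.Quotient.mk pT) Ideal.Quotient.mk_surjective
  have hnoeth : IsNoetherianRing Tb := by
    let ψ₀ : A' ⧸ p →+* Tb := Ideal.quotientMap pT (algebraMap A' T) Ideal.le_comap_map
    let K := FractionRing (A' ⧸ p)
    have hunit : ∀ y : nonZeroDivisors (A' ⧸ p), IsUnit (ψ₀ y) := by
      rintro ⟨y, hy⟩
      obtain ⟨a, rfl⟩ := Ideal.Quotient.mk_surjective y
      show IsUnit (Ideal.Quotient.mk pT (algebraMap A' T a))
      refine IsUnit.map _ ?_
      rw [IsScalarTower.algebraMap_apply A' B' T]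
      refine IsLocalization.map_units T (⟨algebraMap A' B' a, fun h => ?_⟩ : Q.primeCompl)
      exact nonZeroDivisors.ne_zero hy (Ideal.Quotient.eq_zero_iff_mem.mpr h)
    let ψ : K →ₐ[A'] Tb :=
      { (IsLocalization.lift hunit : K →+* Tb) with
        commutes' := fun a => by
          show (IsLocalization.lift hunit : K →+* Tb) (algebraMap A' K a) = _
          rw [IsScalarTower.algebraMap_apply A' (A' ⧸ p) K, IsLocalization.lift_eq]
          rfl }
    refine isNoetherianRing_of_surj_localization ψ ((Ideal.Quotient.mkₐ A' pT).comp (IsScalarTower.toAlgHom A' B' T))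
      fun y => ?_
    obtain ⟨x, rfl⟩ := Ideal.Quotient.mk_surjective y
    obtain ⟨⟨a, s⟩, hx⟩ := IsLocalization.surj Q.primeCompl x
    refine ⟨a, s, (IsLocalization.map_units T s).map (Ideal.Quotient.mk pT), ?_⟩
    exact (map_mul (Ideal.Quotient.mk pT) _ _).symm.trans (congrArg (Ideal.Quotient.mk pT) hx)
  have hreg : RingTheory.Sequence.IsWeaklyRegular Tb (List.ofFn t) := by
    refine RegSeq.isWeaklyRegular_of_isQuasiRegular r t (fun i => ?_) ?_
    · refine IsLocalRing.maximalIdeal_le_jacobson _ ((IsLocalRing.mem_maximalIdeal _).mpr fun hu => ?_)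
      have : IsLocalHom (Ideal.Quotient.mk pT) := IsLocalHom.of_surjective _ Ideal.Quotient.mk_surjective
      exact ((IsLocalization.AtPrime.to_map_mem_maximal_iff T Q (f' i)).mpr (hJQ (Ideal.subset_span (Set.mem_range_self i))))
        ((isUnit_map_iff (Ideal.Quotient.mk pT) _).mp hu)
    · let E := B' ⧸ p.map (algebraMap A' B')
      have hp : (p.map (algebraMap A' B')).map (algebraMap B' T) = pT := by
        rw [Ideal.map_map, ← IsScalarTower.algebraMap_eq]
      let g : E →+* Tb := Ideal.quotientMap pT (algebraMap B' T) (hp ▸ Ideal.le_comap_map)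
      have hg : g.Flat := Groth.FlatDescent.flat_of_surjective_of_ker (algebraMap B' T)
        (RingHom.flat_algebraMap_iff.mpr (IsLocalization.flat T Q.primeCompl)) (Ideal.Quotient.mk _)
        Ideal.Quotient.mk_surjective (Ideal.Quotient.mk pT) Ideal.Quotient.mk_surjective
        (by rw [Ideal.mk_ker, Ideal.mk_ker, hp]) g (RingHom.ext fun _ => rfl)
      let : Algebra E Tb := g.toAlgebra
      have : Module.Flat E Tb := hg
      exact (RegSeq.isQuasiRegular_of_flat (R := E) (S := Tb) (isQuasiRegular_mod_prime I f' hq hflat p hIp) :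
        CAlgX.IsQuasiRegular (algebraMap E Tb ∘ fun i => Ideal.Quotient.mk (p.map (algebraMap A' B')) (f' i)))
  have : Module.Flat A' T := Module.Flat.trans A' B' T
  have hfAt : FlatCA.FlatAt A' Q B' :=
    Module.Flat.of_linearEquiv ((IsLocalizedModule.iso Q.primeCompl (Algebra.linearMap B' T)).restrictScalars A')
  let algX : Algebra (MvPolynomial (Fin r) A') B' := (aeval f').toRingHom.toAlgebra
  have : IsScalarTower A' (MvPolynomial (Fin r) A') B' :=
    IsScalarTower.of_algebraMap_eq fun a => ((aeval f').commutes a).symm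
  have hXflat : Module.Flat (MvPolynomial (Fin r) A') T := by
    have : Module.Flat (MvPolynomial (Fin r) A') (LocalizedModule Q.primeCompl B') :=
      flatAt_mvPolynomial Q hfAt f' (fun i => hJQ (Ideal.subset_span (Set.mem_range_self i))) hreg
    exact Module.Flat.of_linearEquiv
      ((IsLocalizedModule.iso Q.primeCompl (Algebra.linearMap B' T)).restrictScalars (MvPolynomial (Fin r) A')).symm
  let φ : MvPolynomial (Fin r) A' →+* T := algebraMap (MvPolynomial (Fin r) A') T
  have hφ : ∀ x, φ x = algebraMap B' T (aeval f' x) := fun x =>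
    IsScalarTower.algebraMap_apply (MvPolynomial (Fin r) A') B' T x
  have hJT : J'.map (algebraMap B' T) = Ideal.span (Set.range fun i => φ (X i)) := by
    rw [Ideal.map_span, ← Set.range_comp]
    congr 2
    funext i
    rw [hφ, aeval_X]
    rfl
  have hf := flat_quotient_of_flat φ (RingHom.flat_algebraMap_iff.mpr hXflat) (J'.map (algebraMap B' T)) hJT
  have hcomp : (Ideal.Quotient.mk (J'.map (algebraMap B' T))).comp (φ.comp MvPolynomial.C) =
      algebraMap A' (T ⧸ J'.map (algebraMap B' T)) := RingHom.ext fun a => by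
    show Ideal.Quotient.mk _ (φ (MvPolynomial.C a)) = _
    rw [hφ, aeval_C, ← IsScalarTower.algebraMap_apply]
    rfl
  rw [hcomp, RingHom.flat_algebraMap_iff] at hf
  have hloc : J'.localized' T Q.primeCompl (Algebra.linearMap B' T) = J'.map (algebraMap B' T) :=
    Ideal.localized'_eq_map T Q.primeCompl J'
  let e : LocalizedModule Q.primeCompl (B' ⧸ J') ≃ₗ[B'] T ⧸ J'.map (algebraMap B' T) :=
    (IsLocalizedModule.iso Q.primeCompl (J'.toLocalizedQuotient' T Q.primeCompl (Algebra.linearMap B' T))).trans
      ((Submodule.quotEquivOfEq _ _ hloc).restrictScalars B')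
  exact Module.Flat.of_linearEquiv (e.restrictScalars A')

end Groth.Agent.QRegBC
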